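import Groth.Agent.ZeroDimPnLib.Core
import Groth.Agent.ProZeroLib.Descent
import Groth.Agent.DeltaBCLib.DegBirat
import Groth.Agent.GrassRepLib.MapEpi
import Groth.Agent.IntLib.Coeff
import Groth.Agent.CurveLib.StalkDim
import Groth.Agent.DevLib.Closed
import Groth.Agent.CMRegLib.QuotBound

/-!
# Restriction of sections of `O(1)` and `O(2)` to a finite subscheme
-/

set_option autoImplicit false
set_option backward.isDefEq.respectTransparency false
set_option linter.style.haveILetI false
set_option linter.unusedSectionVars false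
set_option maxHeartbeats 800000

universe u

open CategoryTheory CategoryTheory.Limits AlgebraicGeometry TopologicalSpace Opposite
open Groth.Agent.PullbackMod Groth.Agent.DCohLib Groth.Agent.CMRegLib

noncomputable section

namespace Groth.Agent.ZeroDimPnLib

variable {k : Type u} [Field k] {n : ℕ}

local notation "PS" => CohB1.ProjSpace n k
local notation "O(" d ")" => Twist.twistProjSpace n k d

theorem support_twist_subset {Q : (PS).Modules} (j : ℤ) {C : Set PS} (hQ : CohB1.support Q ⊆ C) :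
    CohB1.support (CohB1.tensorMod Q (O(j))) ⊆ C := fun x hx => by
  by_contra hxC
  haveI : Subsingleton (Q.presheaf.stalk x) := not_not.1 fun h => hxC (hQ h)
  refine hx ?_
  obtain ⟨a⟩ := CurveLib.freeAt_one_of_isInvertible (CMRegLib.isInvertible_O (k := k) (n := n) j) x
  exact ((stalkTensor x Q (O(j))).symm.trans
    ((TensorProduct.congr (LinearEquiv.refl _ _) (a.trans (LinearEquiv.funUnique (Fin 1) _ _))).trans
      (TensorProduct.rid _ _))).toEquiv.subsingleton

theorem dim_zero_data {Q : (PS).Modules} (hQ : Coh.IsCoh Q) {C : Set PS} (hC : IsClosed C)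
    (hs : CohB1.support Q ⊆ C) (hd : topologicalKrullDim C ≤ 0) :
    (∀ (j : ℤ) (i : ℕ), 1 ≤ i → HT Q j i) ∧
      ∀ j : ℤ, Module.finrank k (Coh.HH PS (CohB1.tensorMod Q (O(j))) 0) =
        Module.finrank k (Coh.HH PS (CohB1.tensorMod Q (O(0))) 0) := by
  haveI := isNoetherian_projSpace (k := k) (n := n)
  haveI : IsProper (PS ↘ Spec (CommRingCat.of k)) := CompleteCurve.isProper_toSpec n k
  have hv : ∀ (j : ℤ) (i : ℕ), 1 ≤ i → HT Q j i := fun j i hi =>
    CurveLib.subsingleton_HH_of_support _ hC (support_twist_subset j hs) (d := 0) hd hi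
  have he : ∀ j : ℤ, Curv2.euler k PS (CohB1.tensorMod Q (O(j))) =
      Module.finrank k (Coh.HH PS (CohB1.tensorMod Q (O(j))) 0) := fun j => by
    rw [CurveLib.euler_eq_sum (K := k) _ 1 fun p hp => hv j p hp]
    simp
  have hmul : ∀ j : ℤ, Curv2.euler k PS (CohB1.tensorMod Q (O(j))) = Curv2.euler k PS Q := fun j => by
    refine (CurveLib.euler_eq_mul (k := k) hQ (isCoh_twistBy hQ j) hC hs hd 1 fun x => ?_).trans (by simp)
    obtain ⟨a⟩ := CurveLib.freeAt_one_of_isInvertible (CMRegLib.isInvertible_O (k := k) (n := n) j) x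
    exact ⟨((stalkTensor x Q (O(j))).symm.trans
      ((TensorProduct.congr (LinearEquiv.refl _ _) (a.trans (LinearEquiv.funUnique (Fin 1) _ _))).trans
        (TensorProduct.rid _ _))).trans (LinearEquiv.funUnique (Fin 1) _ _).symm⟩
  refine ⟨hv, fun j => ?_⟩
  have h := (he j).symm.trans (((hmul j).trans (hmul 0).symm).trans (he 0))
  exact_mod_cast h

section General

variable {X Y : Scheme.{u}}

/-- Transport of a spanning statement along isomorphisms. -/
theorem span_transport [X.Over (Spec (CommRingCat.of k))] {W W' Q Q' : X.Modules} (zW : W' ≅ W) (zQ : Q' ≅ Q)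
    (u : W ⟶ Q) (u' : W' ⟶ Q') (h : u' ≫ zQ.hom = zW.hom ≫ u) (v : Coh.HH X Q 0)
    (hv : ∀ t : Coh.HH X Q 0, ∃ (s : Coh.HH X W 0) (c : k), t = CurveLib.hMap (k := k) u 0 s + c • v) :
    ∃ v' : Coh.HH X Q' 0, ∀ t : Coh.HH X Q' 0, ∃ (s : Coh.HH X W' 0) (c : k),
      t = CurveLib.hMap (k := k) u' 0 s + c • v' := by
  have hb := CurveLib.hMap_bijective_iso (k := k) zQ 0
  obtain ⟨v', hv'⟩ := hb.2 v
  refine ⟨v', fun t => ?_⟩
  obtain ⟨s, c, hsc⟩ := hv (CurveLib.hMap (k := k) zQ.hom 0 t)
  obtain ⟨s', hs'⟩ := (CurveLib.hMap_bijective_iso (k := k) zW 0).2 s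
  refine ⟨s', c, hb.1 ?_⟩
  rw [hsc, map_add, map_smul, hv', ← CMRegLib.hMap_comp, h, CMRegLib.hMap_comp, hs']

/-- The unit at a product is the product with the unit, for a closed immersion. -/
theorem exists_unit_tensor (i : X ⟶ Y) [IsClosedImmersion i] {L L' : Y.Modules} (hL : PicF.IsInvertible L)
    (hL' : PicF.IsInvertible L') (e : CohB1.tensorMod L L ≅ L')
    (hepi : Epi ((CurveLib.tensR L).map ((Scheme.Modules.pullbackPushforwardAdjunction i).unit.app L))) :
    ∃ p : (CurveLib.tensR L).obj ((Scheme.Modules.pushforward i).obj ((Scheme.Modules.pullback i).obj L)) ≅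
        (Scheme.Modules.pushforward i).obj ((Scheme.Modules.pullback i).obj L'),
      (Scheme.Modules.pullbackPushforwardAdjunction i).unit.app L' = e.inv ≫
        (CurveLib.tensR L).map ((Scheme.Modules.pullbackPushforwardAdjunction i).unit.app L) ≫ p.hom := by
  let A := Scheme.Modules.pullbackPushforwardAdjunction i
  let N := (Scheme.Modules.pullback i).obj L
  have hN : PicF.IsInvertible N := AmpleLib.isInvertible_pullback i hL
  have hflf : FlatMod.IsFinLocFree L := fun x => by
    obtain ⟨U, hx, hU⟩ := CurveLib.isFinLocFreeOfRank_one hL x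
    exact ⟨U, 1, hx, hU⟩
  obtain ⟨p⟩ := DeltaBC.nonempty_proj_iso i hflf N
  haveI := hepi
  let f : L' ⟶ (Scheme.Modules.pushforward i).obj (CohB1.tensorMod N ((Scheme.Modules.pullback i).obj L)) :=
    e.inv ≫ (CurveLib.tensR L).map (A.unit.app L) ≫ p.hom
  haveI : Epi f := epi_comp _ _
  let g := (A.homEquiv _ _).symm f
  have hfg : f = A.unit.app L' ≫ (Scheme.Modules.pushforward i).map g :=
    ((A.homEquiv _ _).apply_symm_apply f).symm.trans (A.homEquiv_unit _ _ _)
  haveI : IsIso (A.counit.app (CohB1.tensorMod N ((Scheme.Modules.pullback i).obj L))) :=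
    DCohLib.isIso_counit_closedImmersion i _
  haveI : (Scheme.Modules.pullback i).IsLeftAdjoint := A.isLeftAdjoint
  haveI : Epi g := by
    show Epi ((A.homEquiv _ _).symm f)
    rw [A.homEquiv_counit]
    exact epi_comp _ _
  haveI : IsIso g := GrassRepLib.isIso_of_epi_rank g (e := 1)
    (CurveLib.isFinLocFreeOfRank_one (AmpleLib.isInvertible_pullback i hL'))
    (CurveLib.isFinLocFreeOfRank_one (AmpleLib.isInvertible_tensor hN (AmpleLib.isInvertible_pullback i hL)))
  refine ⟨p ≪≫ ((Scheme.Modules.pushforward i).mapIso (asIso g)).symm, ?_⟩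
  have h := (Iso.eq_comp_inv ((Scheme.Modules.pushforward i).mapIso (asIso g))).2 hfg.symm
  refine h.trans ?_
  simp only [f, Iso.trans_hom, Iso.symm_hom, Category.assoc]
  rfl

/-- Surjectivity transported along isomorphisms. -/
theorem surjective_of_eq [X.Over (Spec (CommRingCat.of k))] {A B C D : X.Modules} (a : A ≅ B) (f : B ⟶ C) (b : C ≅ D)
    (h : A ⟶ D) (e : h = a.hom ≫ f ≫ b.hom) (hf : Function.Surjective (CurveLib.hMap (k := k) f 0)) :
    Function.Surjective (CurveLib.hMap (k := k) h 0) := by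
  subst e
  intro t
  obtain ⟨y, rfl⟩ := (CurveLib.hMap_bijective_iso (k := k) b 0).2 t
  obtain ⟨w, rfl⟩ := hf y
  obtain ⟨w', rfl⟩ := (CurveLib.hMap_bijective_iso (k := k) a 0).2 w
  exact ⟨w', by rw [CMRegLib.hMap_comp, CMRegLib.hMap_comp]⟩

end General

/-- A spanning vector bounds `h¹` of the kernel. -/
theorem h1_kernel_le {Q : (PS).Modules} (u : O(1) ⟶ Q) [Epi u] (v : Coh.HH PS Q 0)
    (hv : ∀ t : Coh.HH PS Q 0, ∃ (s : Coh.HH PS (O(1)) 0) (c : k), t = CurveLib.hMap (k := k) u 0 s + c • v) :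
    h1 (kernel u) 0 ≤ 1 := by
  have hT := shortExact_twSeq (CMRegLib.shortExact_ker u) 0
  haveI hz : Subsingleton (Coh.HH PS (twSeq (ShortComplex.mk (kernel.ι u) u (kernel.condition u)) 0).X₂ 1) :=
    HT_O 1 0 le_rfl (by omega)
  obtain ⟨v', hv'⟩ := span_transport (zeroTwistIso (O(1))) (zeroTwistIso Q) u ((CurveLib.tensR (O(0))).map u)
    (zeroTwistIso_natural u) v hv
  let δ := CurveLib.hδ (k := k) hT 0
  have hδ : LinearMap.range δ = ⊤ := by
    rw [CurveLib.range_hδ hT 0, LinearMap.ker_eq_top]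
    exact LinearMap.ext fun _ => Subsingleton.elim _ _
  refine finrank_le_one (δ v') fun z => ?_
  obtain ⟨t, rfl⟩ := LinearMap.range_eq_top.1 hδ z
  obtain ⟨s, c, rfl⟩ := hv' t
  refine ⟨c, ?_⟩
  have h0 : δ (CurveLib.hMap (k := k) ((CurveLib.tensR (O(0))).map u) 0 s) = 0 :=
    LinearMap.mem_ker.1 ((CurveLib.range_hMap_g (k := k) hT 0).le ⟨s, rfl⟩)
  exact ((δ.map_add _ _).trans ((congrArg₂ (· + ·) h0 (δ.map_smul c v')).trans (zero_add _))).symm

/-- Twisting a map once makes it surjective on sections. -/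
theorem surjective_tens_one {Q : (PS).Modules} (hQ : Coh.IsCoh Q) {C : Set PS} (hC : IsClosed C)
    (hs : CohB1.support Q ⊆ C) (hd : topologicalKrullDim C ≤ 0) (u : O(1) ⟶ Q) [Epi u]
    (h1le : h1 (kernel u) 0 ≤ 1) :
    Function.Surjective (CurveLib.hMap (k := k) ((CurveLib.tensR (O(1))).map u) 0) := by
  haveI := isNoetherian_projSpace (k := k) (n := n)
  have hW : Coh.IsCoh (O(1)) := CurveLib.isCoh_of_isInvertible (CMRegLib.isInvertible_O 1)
  obtain ⟨hQv, hQ0⟩ := dim_zero_data hQ hC hs hd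
  have hS := CMRegLib.shortExact_ker u
  have hvan : HT (kernel u) 1 1 :=
    vanish hS (QCohLib.isCoh_kernel_cokernel u hW hQ).1 hQ hQv hQ0 h1le
  have hT' := shortExact_twSeq hS 1
  haveI hz : Subsingleton (Coh.HH PS (twSeq (ShortComplex.mk (kernel.ι u) u (kernel.condition u)) 1).X₁ (0 + 1)) := hvan
  refine LinearMap.range_eq_top.1 ?_
  show LinearMap.range (CurveLib.hMap (k := k) (twSeq (ShortComplex.mk (kernel.ι u) u (kernel.condition u)) 1).g 0) = ⊤
  rw [CurveLib.range_hMap_g hT' 0, LinearMap.ker_eq_top]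
  exact LinearMap.ext fun _ => Subsingleton.elim _ _

theorem surjective_two (Z : (PS).IdealSheafData) (hZ : topologicalKrullDim (Z.support : Set PS) ≤ 0)
    (v : Coh.HH PS ((Scheme.Modules.pushforward Z.subschemeι).obj
      ((Scheme.Modules.pullback Z.subschemeι).obj (O(1)))) 0)
    (hv : ∀ t : Coh.HH PS ((Scheme.Modules.pushforward Z.subschemeι).obj
      ((Scheme.Modules.pullback Z.subschemeι).obj (O(1)))) 0, ∃ (s : Coh.HH PS (O(1)) 0) (c : k),
      t = @id (Coh.HH PS ((Scheme.Modules.pushforward Z.subschemeι).obj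
        ((Scheme.Modules.pullback Z.subschemeι).obj (O(1)))) 0) (CurveLib.hMap (k := k)
        ((Scheme.Modules.pullbackPushforwardAdjunction Z.subschemeι).unit.app (O(1))) 0 s) + c • v) :
    Function.Surjective (CurveLib.hMap (k := k)
      ((Scheme.Modules.pullbackPushforwardAdjunction Z.subschemeι).unit.app (O(2))) 0) := by
  haveI := isNoetherian_projSpace (k := k) (n := n)
  have hW : Coh.IsCoh (O(1)) := CurveLib.isCoh_of_isInvertible (CMRegLib.isInvertible_O 1)
  haveI := hW.1
  let u : O(1) ⟶ (Scheme.Modules.pushforward Z.subschemeι).obj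
      ((Scheme.Modules.pullback Z.subschemeι).obj (O(1))) :=
    (Scheme.Modules.pullbackPushforwardAdjunction Z.subschemeι).unit.app (O(1))
  haveI : Epi u := ProZeroLib.epi_unit_closed Z.subschemeι (O(1))
  have hQ := DevLib.isCoh_pushforward_closed Z.subschemeι (PullbackMod.isCoh_pullback Z.subschemeι _ hW)
  have hsupp : CohB1.support ((Scheme.Modules.pushforward Z.subschemeι).obj
      ((Scheme.Modules.pullback Z.subschemeι).obj (O(1)))) ⊆ (Z.support : Set PS) := fun x hx => by
    have h := IntLib.support_pushforward_subset Z.subschemeι _ hx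
    rwa [Z.range_subschemeι] at h
  have h1 := h1_kernel_le u v hv
  have hs := surjective_tens_one hQ Z.support.isClosed hsupp hZ u h1
  let e : CohB1.tensorMod (O(1)) (O(1)) ≅ O(2) := K0PnLib.twistAddIso k n (by norm_num)
  obtain ⟨p, hp⟩ := exists_unit_tensor Z.subschemeι (CMRegLib.isInvertible_O 1) (CMRegLib.isInvertible_O 2) e
    (shortExact_twSeq (CMRegLib.shortExact_ker u) 1).epi_g
  exact surjective_of_eq e.symm _ p _ hp hs

end Groth.Agent.ZeroDimPnLib
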