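import Groth.Agent.CMRegLib.Bound
import Groth.Agent.CMRegLib.BoundFree
import Groth.Agent.CMRegLib.Drop
import Groth.Agent.CMRegLib.Mult
import Groth.Agent.HorrocksPnLib.Coherent
import Groth.Agent.HodgePnLib.Ring
import Groth.Agent.K0PnLib.Euler
import Groth.Agent.DCohMore.FinPushRes

/-!
# Finite subschemes imposing almost independent conditions on hyperplanes
-/

set_option autoImplicit false
set_option backward.isDefEq.respectTransparency false
set_option linter.style.haveILetI false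
set_option linter.unusedSectionVars false
set_option maxHeartbeats 400000

universe u

open CategoryTheory CategoryTheory.Limits AlgebraicGeometry TopologicalSpace Opposite
open Groth.Agent.PullbackMod Groth.Agent.DCohLib Groth.Agent.CMRegLib

noncomputable section

namespace Groth.Agent.ZeroDimPnLib

variable {k : Type u} [Field k] {n : ℕ}

local notation "PS" => CohB1.ProjSpace n k
local notation "O(" d ")" => Twist.twistProjSpace n k d

theorem HT_O (a d : ℤ) {i : ℕ} (hi : 1 ≤ i) (h : -((n : ℤ) + 1) < a + d) : HT (O(a)) d i := by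
  haveI := HodgePnLib.subsingleton_O n k (d := a + d) (q := i) (by omega) (by omega)
  exact @ProjCoh.subsingleton_of_iso _ _ _ (K0PnLib.twistAddIso k n (rfl : a + d = a + d)).symm i this

/-- A coherent module with no twisted sections at all vanishes. -/
theorem isZero_of_no_sections {M : (PS).Modules} (hM : Coh.IsCoh M)
    (h : ∀ d : ℤ, Subsingleton (Coh.HH PS (CohB1.tensorMod M (O(d))) 0)) : IsZero M := by
  obtain ⟨N, hN⟩ := exists_spanned_twist hM
  refine HorrocksPnLib.isZero_of_twist (t := (N : ℤ)) ((IsZero.iff_id_eq_zero _).2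
    (hom_ext_stalk fun x => LinearMap.ext fun z => ?_))
  haveI := h N
  haveI : Subsingleton Γ(CohB1.tensorMod M (O((N : ℤ))), ⊤) :=
    (RpushLib.h0Γ (CohB1.tensorMod M (O((N : ℤ))))).toEquiv.subsingleton
  have hz : z ∈ (⊥ : Submodule ((PS).presheaf.stalk x) _) := by
    refine (le_of_eq_of_le (hN N le_rfl x).symm ?_) Submodule.mem_top
    refine Submodule.span_le.2 ?_
    rintro _ ⟨σ, rfl⟩
    refine (Submodule.mem_bot _).2 ?_
    exact (congrArg _ (Subsingleton.elim σ 0)).trans (map_zero _)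
  rw [(Submodule.mem_bot _).1 hz, map_zero, map_zero]

/-- A linear form regular on a module of dimension zero is invertible on it. -/
theorem epi_linMap {Q : (PS).Modules} (hQ : Coh.IsCoh Q) (hQv : ∀ (j : ℤ) (i : ℕ), 1 ≤ i → HT Q j i)
    (hQ0 : ∀ j : ℤ, Module.finrank k (Coh.HH PS (CohB1.tensorMod Q (O(j))) 0) =
      Module.finrank k (Coh.HH PS (CohB1.tensorMod Q (O(0))) 0))
    (c : Fin (n + 1) → k) [Mono (linMap c Q)] : Epi (linMap c Q) := by
  haveI := isNoetherian_projSpace (k := k) (n := n)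
  haveI : IsProper (PS ↘ Spec (CommRingCat.of k)) := CompleteCurve.isProper_toSpec n k
  refine Preadditive.epi_of_isZero_cokernel _ (isZero_of_no_sections (isCoh_cokernel_linMap hQ c) fun d => ?_)
  have hT := shortExact_twSeq (shortExact_coker (linMap c Q)) d
  haveI hz : Subsingleton (Coh.HH PS (twSeq (ShortComplex.mk (linMap c Q) _ (cokernel.condition _)) d).X₁ (0 + 1)) :=
    HT.twist rfl (hQv (-1 + d) 1 le_rfl)
  let f := CurveLib.hMap (k := k) (twSeq (ShortComplex.mk (linMap c Q) _ (cokernel.condition _)) d).f 0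
  haveI := EulerIneqLib.finite_HH (k := k) (X := PS)
    (M := (twSeq (ShortComplex.mk (linMap c Q) _ (cokernel.condition _)) d).X₁)
    (isCoh_twistBy (isCoh_twistBy hQ (-1)) d) 0
  haveI := EulerIneqLib.finite_HH (k := k) (X := PS)
    (M := (twSeq (ShortComplex.mk (linMap c Q) _ (cokernel.condition _)) d).X₂) (isCoh_twistBy hQ d) 0
  have hdim : Module.finrank k (Coh.HH PS (twSeq (ShortComplex.mk (linMap c Q) _ (cokernel.condition _)) d).X₁ 0) =
      Module.finrank k (Coh.HH PS (twSeq (ShortComplex.mk (linMap c Q) _ (cokernel.condition _)) d).X₂ 0) := by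
    refine Eq.trans ?_ ((hQ0 (-1 + d)).trans (hQ0 d).symm)
    exact (LinearEquiv.ofBijective _ (CurveLib.hMap_bijective_iso (k := k)
      (@asIso _ _ _ _ (mulMap Q (rfl : (-1 : ℤ) + d = -1 + d)) (isIso_mulMap Q rfl)) 0)).finrank_eq
  have hinj : Function.Injective f := CurveLib.hMap_f_zero_injective (k := k) hT
  have hsurj := (LinearMap.injective_iff_surjective_of_finrank_eq_finrank hdim (f := f)).1 hinj
  refine ⟨fun a b => ?_⟩
  suffices key : ∀ z : Coh.HH PS (twSeq (ShortComplex.mk (linMap c Q) _ (cokernel.condition _)) d).X₃ 0, z = 0 from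
    (key a).trans (key b).symm
  intro z
  have hg : LinearMap.range (CurveLib.hMap (k := k) (twSeq (ShortComplex.mk (linMap c Q) _ (cokernel.condition _)) d).g 0) = ⊤ := by
    rw [CurveLib.range_hMap_g hT 0, LinearMap.ker_eq_top]
    exact LinearMap.ext fun _ => Subsingleton.elim _ _
  obtain ⟨y, rfl⟩ := LinearMap.range_eq_top.1 hg z
  obtain ⟨x, rfl⟩ := hsurj y
  exact LinearMap.mem_ker.1 ((CurveLib.range_hMap_f (k := k) hT 0).le (LinearMap.mem_range_self f x))

/-- Epimorphy of the induced map of cokernels. -/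
theorem epi_cokernel_map {C : Type*} [Category C] [Abelian C] {A₁ B₁ C₁ A₂ B₂ C₂ : C} {a : A₁ ⟶ B₁} {b : B₁ ⟶ C₁}
    {ι : A₂ ⟶ B₂} {q : B₂ ⟶ C₂} {w : ι ≫ q = 0} (hex : (ShortComplex.mk ι q w).Exact) [Epi q]
    (lA : A₁ ⟶ A₂) (lB : B₁ ⟶ B₂) (lC : C₁ ⟶ C₂) [Epi b] [Epi lC]
    (sq : lA ≫ ι = a ≫ lB) (sq' : b ≫ lC = lB ≫ q) : Epi (cokernel.map lA lB a ι sq) := by
  set g := cokernel.map lA lB a ι sq with hg
  have hz : ι ≫ cokernel.π lB ≫ cokernel.π g = 0 := by
    have h1 : ι ≫ cokernel.π lB = cokernel.π lA ≫ g := (cokernel.π_desc _ _ _).symm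
    rw [← Category.assoc, h1, Category.assoc, cokernel.condition, comp_zero]
  obtain ⟨r, hr⟩ : ∃ r, q ≫ r = cokernel.π lB ≫ cokernel.π g := ⟨hex.desc _ hz, hex.g_desc _ hz⟩
  have h0 : b ≫ lC ≫ r = 0 := by
    rw [← Category.assoc, sq', Category.assoc, hr, ← Category.assoc, cokernel.condition, zero_comp]
  have hr0 : r = 0 := zero_of_epi_comp lC (zero_of_epi_comp b h0)
  refine Preadditive.epi_of_cancel_zero g fun f hf => ?_
  have h2 : cokernel.π g ≫ cokernel.desc g f hf = f := cokernel.π_desc _ _ _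
  rw [← cancel_epi (cokernel.π lB), ← h2, ← Category.assoc, ← hr, hr0, comp_zero, zero_comp, comp_zero]

/-- Restriction to a hyperplane missing the support of the quotient. -/
theorem isIso_restrict {F W Q : (PS).Modules} {ι : F ⟶ W} {q : W ⟶ Q} {w : ι ≫ q = 0}
    (hS : (ShortComplex.mk ι q w).ShortExact) (c : Fin (n + 1) → k) [Mono (linMap c Q)] [Epi (linMap c Q)] :
    IsIso (cokernel.map (linMap c F) (linMap c W) ((CurveLib.tensR (O(-1))).map ι) ι (linMap_natural c ι).symm) := by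
  haveI : Mono ι := hS.mono_f
  haveI : Epi q := hS.epi_g
  have hT₁ := shortExact_twSeq hS (-1)
  haveI : Epi ((CurveLib.tensR (O(-1))).map q) := hT₁.epi_g
  haveI := mono_of_snake ((CurveLib.tensR (O(-1))).map ι) ((CurveLib.tensR (O(-1))).map q) _ hT₁.exact ι
      q w (linMap c F) (linMap c W) (linMap c Q) (linMap_natural c ι) (linMap_natural c q)
      (cokernel.π (linMap c F)) (cokernel.condition _) (cokernel.π (linMap c W)) (cokernel.condition _)
      (ShortComplex.exact_of_g_is_cokernel _ (cokernelIsCokernel _))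
      (cokernel.map (linMap c F) (linMap c W) ((CurveLib.tensR (O(-1))).map ι) ι (linMap_natural c ι).symm)
      (cokernel.π_desc _ _ _)
  haveI := epi_cokernel_map hS.exact (linMap c F) (linMap c W) (linMap c Q) (linMap_natural c ι).symm
    (linMap_natural c q)
  exact isIso_of_mono_of_epi _

/-- Regularity of the restriction. -/
theorem regular_restrict {F W Q : (PS).Modules} {ι : F ⟶ W} {q : W ⟶ Q} {w : ι ≫ q = 0}
    (hS : (ShortComplex.mk ι q w).ShortExact)
    (hWv : ∀ (d : ℤ) (i : ℕ), 1 ≤ i → -((n : ℤ) + 1) < 1 + d → HT W d i)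
    (c : Fin (n + 1) → k) [Mono (linMap c W)] [Mono (linMap c Q)] [Epi (linMap c Q)] :
    Curv2.IsMRegular k n (cokernel (linMap c F)) 1 := fun i hi hin => by
  haveI := isIso_restrict hS c
  have h₁ : HT W (1 - (i : ℤ)) i := hWv _ i hi (by omega)
  have h₂ : HT (CohB1.tensorMod W (O(-1))) (1 - (i : ℤ)) (i + 1) :=
    HT.twist (c := -1 + (1 - (i : ℤ))) rfl (hWv _ (i + 1) (by omega) (by omega))
  have h₃ : HT (cokernel (linMap c W)) (1 - (i : ℤ)) i := HT.right (shortExact_coker (linMap c W)) h₁ h₂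
  exact HT.iso (asIso (cokernel.map (linMap c F) (linMap c W) _ ι (linMap_natural c ι).symm)).symm h₃

/-- `h¹(F(1)) = 0` when `h¹(F) ≤ 1` for the kernel of `O(1) → Q` with `Q` of dimension zero. -/
theorem vanish_of_infinite [Infinite k] {F Q : (PS).Modules} {ι : F ⟶ O(1)} {q : O(1) ⟶ Q} {w : ι ≫ q = 0}
    (hS : (ShortComplex.mk ι q w).ShortExact) (hF : Coh.IsCoh F) (hQ : Coh.IsCoh Q)
    (hQv : ∀ (j : ℤ) (i : ℕ), 1 ≤ i → HT Q j i)
    (hQ0 : ∀ j : ℤ, Module.finrank k (Coh.HH PS (CohB1.tensorMod Q (O(j))) 0) =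
      Module.finrank k (Coh.HH PS (CohB1.tensorMod Q (O(0))) 0))
    (h1le : h1 F 0 ≤ 1) : HT F 1 1 := by
  haveI := isNoetherian_projSpace (k := k) (n := n)
  haveI : IsProper (PS ↘ Spec (CommRingCat.of k)) := CompleteCurve.isProper_toSpec n k
  have hW : Coh.IsCoh (O(1)) := CurveLib.isCoh_of_isInvertible (CMRegLib.isInvertible_O 1)
  have hbot : (⊥ : Submodule k (Fin (n + 1) → k)) ≠ ⊤ := bot_ne_top
  obtain ⟨c, -, hcW, hcQ⟩ := exists_general hW hQ hbot
  haveI := hcW
  haveI := hcQ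
  haveI : Mono ι := hS.mono_f
  haveI : Epi q := hS.epi_g
  haveI : Mono (linMap c F) := mono_linMap_of_mono c ι
  haveI : Epi (linMap c Q) := epi_linMap hQ hQv hQ0 c
  have hG := regular_restrict hS (fun d i hi hd => HT_O 1 d hi hd) c
  obtain ⟨-, -, hv, -⟩ := drop_main hF (isCoh_cokernel_linMap hF c) (isCoh_twistBy hF (-1)) (Iso.refl _)
    (shortExact_coker (linMap c F)) hG
  refine hv 1 ?_
  rw [sub_self, zero_add]
  exact_mod_cast h1le

/-- `h¹(F(1)) = 0` when `h¹(F) ≤ 1`, over any field. -/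
theorem vanish {F Q : (PS).Modules} {ι : F ⟶ O(1)} {q : O(1) ⟶ Q} {w : ι ≫ q = 0}
    (hS : (ShortComplex.mk ι q w).ShortExact) (hF : Coh.IsCoh F) (hQ : Coh.IsCoh Q)
    (hQv : ∀ (j : ℤ) (i : ℕ), 1 ≤ i → HT Q j i)
    (hQ0 : ∀ j : ℤ, Module.finrank k (Coh.HH PS (CohB1.tensorMod Q (O(j))) 0) =
      Module.finrank k (Coh.HH PS (CohB1.tensorMod Q (O(0))) 0))
    (h1le : h1 F 0 ≤ 1) : HT F 1 1 := by
  let K := AlgebraicClosure k
  let b := GenSeesawLib.bcMap n k K
  haveI := flat_bcMap k n K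
  haveI := isNoetherian_projSpace (k := k) (n := n)
  haveI := isNoetherian_projSpace (k := K) (n := n)
  obtain ⟨o⟩ := nonempty_pullback_twist k n K 1
  haveI : Mono ι := hS.mono_f
  haveI : Epi q := hS.epi_g
  haveI := DCohMore.preservesHomology_pullback b
  have hSK := hS.map (Scheme.Modules.pullback b)
  let e : (ShortComplex.mk ι q w).map (Scheme.Modules.pullback b) ≅
      ShortComplex.mk ((Scheme.Modules.pullback b).map ι ≫ o.hom) (o.inv ≫ (Scheme.Modules.pullback b).map q)
        (by rw [Category.assoc, o.hom_inv_id_assoc, ← Functor.map_comp, w, Functor.map_zero]) :=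
    ShortComplex.isoMk (Iso.refl _) o (Iso.refl _) (by simp) (by simp)
  have hS' := ShortComplex.shortExact_of_iso e hSK
  have hbc : ∀ {M : (PS).Modules}, Coh.IsCoh M → ∀ (j : ℤ) (i : ℕ),
      Nonempty (TensorProduct k K (Coh.HH PS (CohB1.tensorMod M (O(j))) i) ≃ₗ[K]
        Coh.HH (CohB1.ProjSpace n K)
          (CohB1.tensorMod ((Scheme.Modules.pullback b).obj M) (Twist.twistProjSpace n K j)) i) := fun {M} hM j i => by
    obtain ⟨e₁⟩ := nonempty_tensor_pullback K M j
    obtain ⟨e₂⟩ := nonempty_hh_bcMap K (isCoh_twistBy hM j).1 i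
    exact ⟨e₂.trans (LinearEquiv.ofBijective _ (CurveLib.hMap_bijective_iso (k := K) e₁ i))⟩
  have hrk : ∀ {M : (PS).Modules}, Coh.IsCoh M → ∀ (j : ℤ) (i : ℕ),
      Module.finrank K (Coh.HH (CohB1.ProjSpace n K)
          (CohB1.tensorMod ((Scheme.Modules.pullback b).obj M) (Twist.twistProjSpace n K j)) i) =
        Module.finrank k (Coh.HH PS (CohB1.tensorMod M (O(j))) i) := fun {M} hM j i => by
    obtain ⟨e'⟩ := hbc hM j i
    rw [← e'.finrank_eq, Module.finrank_baseChange]
  have h := vanish_of_infinite hS' (PullbackMod.isCoh_pullback b F hF) (PullbackMod.isCoh_pullback b Q hQ)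
    (fun j i hi => by
      obtain ⟨e'⟩ := hbc hQ j i
      haveI := hQv j i hi
      haveI : Subsingleton (TensorProduct k K (Coh.HH PS (CohB1.tensorMod Q (O(j))) i)) :=
        (Module.FaithfullyFlat.subsingleton_tensorProduct_iff_right k K).2 (hQv j i hi)
      exact e'.toEquiv.symm.subsingleton)
    (fun j => (hrk hQ j 0).trans ((hQ0 j).trans (hrk hQ 0 0).symm))
    ((hrk hF 0 1).le.trans h1le)
  obtain ⟨e'⟩ := hbc hF 1 1
  haveI := h
  haveI := e'.toEquiv.subsingleton
  exact (Module.FaithfullyFlat.subsingleton_tensorProduct_iff_right k K).1 inferInstance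

end Groth.Agent.ZeroDimPnLib
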